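import Groth.Agent.SpecSp.Constr

/-!
The retraction of a w-local space onto its closed points.
-/

set_option autoImplicit false

universe u

open Set Topology TopologicalSpace

namespace Groth.Agent.WLocalLib

variable {X : Type u} [TopologicalSpace X] [SpectralSpace X]

theorem isClosed_cons_generalizations {C : Set X} (hC : IsCompact C) :
    IsClosed[constructibleTopology X] {x : X | ∃ c ∈ C, x ⤳ c} := by
  have heq : {x : X | ∃ c ∈ C, x ⤳ c} = ⋂ U : {U : Set X // IsOpen U ∧ IsCompact U ∧ C ⊆ U}, U.1 := by
    ext x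
    simp only [mem_iInter, mem_setOf_eq]
    constructor
    · rintro ⟨c, hc, hxc⟩ ⟨U, hUo, -, hCU⟩
      exact hxc.mem_open hUo (hCU hc)
    · intro hx
      by_contra hne
      push Not at hne
      choose V hV hV' hxV using fun c : C => not_specializes_iff_exists_open.1 (hne c c.2)
      choose U hU hcU hUV using fun c : C =>
        PrespectralSpace.isTopologicalBasis.exists_subset_of_mem_open (hV' c) (hV c)
      obtain ⟨s, hs⟩ := hC.elim_finite_subcover U (fun c => (hU c).1) fun c hc => mem_iUnion.2 ⟨⟨c, hc⟩, hcU _⟩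
      have := hx ⟨⋃ c ∈ s, U c, isOpen_biUnion fun c _ => (hU c).1, s.isCompact_biUnion fun c _ => (hU c).2, hs⟩
      simp only [mem_iUnion] at this
      obtain ⟨c, -, hxc⟩ := this
      exact hxV c (hUV c hxc)
  rw [heq]
  exact @isClosed_iInter X _ (constructibleTopology X) _ fun U => (SpecSp.isClopen_cons U.2.1 U.2.2.1).1

variable (h0 : IsClosed {x : X | IsClosed ({x} : Set X)})
  (huniq : ∀ x : X, ∃! z : X, IsClosed ({z} : Set X) ∧ x ⤳ z)

/-- The closed point a point specializes to. -/
noncomputable def retract (x : X) : X := (huniq x).exists.choose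

theorem retract_spec (x : X) : IsClosed ({retract huniq x} : Set X) ∧ x ⤳ retract huniq x :=
  (huniq x).exists.choose_spec

theorem retract_eq {x z : X} (hz : IsClosed ({z} : Set X)) (h : x ⤳ z) : retract huniq x = z :=
  (huniq x).unique (retract_spec huniq x) ⟨hz, h⟩

theorem retract_eq_of_specializes {x y : X} (h : x ⤳ y) : retract huniq x = retract huniq y :=
  retract_eq huniq (retract_spec huniq y).1 (h.trans (retract_spec huniq y).2)

include h0 huniq

theorem isOpen_retract_preimage_compl {C : Set X} (hC : IsClosed C) :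
    IsOpen (retract huniq ⁻¹' C)ᶜ := by
  have heq : retract huniq ⁻¹' C = {x : X | ∃ c ∈ C ∩ {z : X | IsClosed ({z} : Set X)}, x ⤳ c} := by
    ext x
    constructor
    · exact fun hx => ⟨_, ⟨hx, (retract_spec huniq x).1⟩, (retract_spec huniq x).2⟩
    · rintro ⟨c, ⟨hc, hcl⟩, hxc⟩
      show retract huniq x ∈ C
      rwa [retract_eq huniq hcl hxc]
  refine SpecSp.isOpen_of_stableUnderGeneralization ?_ fun x y hxy hx hy => hx ?_
  · rw [heq]
    exact @IsClosed.isOpen_compl X (constructibleTopology X) _
      (isClosed_cons_generalizations ((hC.inter h0).isCompact))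
  · show retract huniq x ∈ C
    rw [← retract_eq_of_specializes huniq hxy]
    exact hy

theorem exists_isClopen_separating {z z' : X} (hz : IsClosed ({z} : Set X)) (hz' : IsClosed ({z'} : Set X))
    (hne : z ≠ z') : ∃ W : Set X, IsClopen W ∧ z ∈ W ∧ z' ∉ W := by
  obtain ⟨U, ⟨hUo, hUc⟩, hzU, hUsub⟩ := PrespectralSpace.isTopologicalBasis.exists_subset_of_mem_open
    (show z ∈ ({z'} : Set X)ᶜ from hne) hz'.isOpen_compl
  have hU0 : IsClosed (U ∩ {x : X | IsClosed ({x} : Set X)}) :=
    SpecSp.isClosed_of_stableUnderSpecialization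
      (@IsClosed.inter X _ _ (constructibleTopology X) (SpecSp.isClopen_cons hUo hUc).1 (SpecSp.isClosed_cons h0))
      fun a b hab ha => by
        obtain rfl : b = a := hab.mem_closed ha.2 rfl
        exact ha
  have h1 := isOpen_retract_preimage_compl h0 huniq hU0
  have h2 := isOpen_retract_preimage_compl h0 huniq (hUo.isClosed_compl.inter h0)
  have hc : (retract huniq ⁻¹' (Uᶜ ∩ {x : X | IsClosed ({x} : Set X)}))ᶜ = retract huniq ⁻¹' U := by
    ext x
    simp [(retract_spec huniq x).1]
  have hc' : (retract huniq ⁻¹' (U ∩ {x : X | IsClosed ({x} : Set X)}))ᶜ = (retract huniq ⁻¹' U)ᶜ := by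
    ext x
    simp [(retract_spec huniq x).1]
  rw [hc] at h2
  rw [hc'] at h1
  refine ⟨retract huniq ⁻¹' U, ⟨⟨h1⟩, h2⟩, ?_, ?_⟩
  · show retract huniq z ∈ U
    rwa [retract_eq huniq hz specializes_rfl]
  · show retract huniq z' ∉ U
    rw [retract_eq huniq hz' specializes_rfl]
    exact fun h => hUsub h rfl

theorem bijective_closedPoints :
    Function.Bijective (fun x : {x : X // IsClosed ({x} : Set X)} => ConnectedComponents.mk x.1) := by
  constructor
  · rintro ⟨z, hz⟩ ⟨z', hz'⟩ h
    by_contra hne
    obtain ⟨W, hW, hzW, hzW'⟩ := exists_isClopen_separating h0 huniq hz hz' fun e => hne (Subtype.ext e)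
    exact hzW' (hW.connectedComponent_subset hzW (ConnectedComponents.coe_eq_coe'.1 h.symm))
  · refine ConnectedComponents.surjective_coe.forall.2 fun x => ⟨⟨_, (retract_spec huniq x).1⟩, ?_⟩
    exact ConnectedComponents.coe_eq_coe'.2 (isClosed_connectedComponent.closure_subset_iff.2
      (singleton_subset_iff.2 mem_connectedComponent) (retract_spec huniq x).2.mem_closure)

end Groth.Agent.WLocalLib
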