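import Groth.Agent.WLocalLib.Retract
import Groth.Prelude.Def_PBC
import Groth.Prelude.Def_ProEtW
import Mathlib.RingTheory.LocalProperties.Exactness
import Mathlib.RingTheory.Localization.AtPrime.Basic

/-!
Maps identifying local rings between w-local spectra.
-/

set_option autoImplicit false
set_option linter.style.haveILetI false

universe u

open Topology

namespace Groth.Agent.WLocalLib

variable {A B : Type u} [CommRing A] [CommRing B] [Algebra A B]

theorem comap_eq_localization (h1 : EtPBC.IdentifiesLocalRings A B) (m : PrimeSpectrum B) :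
    Function.Bijective (Localization.localRingHom (m.asIdeal.comap (algebraMap A B)) m.asIdeal (algebraMap A B) rfl) ∧
    (algebraMap B (Localization.AtPrime m.asIdeal)).comp (algebraMap A B) =
      (Localization.localRingHom (m.asIdeal.comap (algebraMap A B)) m.asIdeal (algebraMap A B) rfl).comp
        (algebraMap A (Localization.AtPrime (m.asIdeal.comap (algebraMap A B)))) :=
  ⟨h1 m, RingHom.ext fun _ => (Localization.localRingHom_to_map _ m.asIdeal (algebraMap A B) rfl _).symm⟩

theorem le_of_comap_le (h1 : EtPBC.IdentifiesLocalRings A B) (m : PrimeSpectrum B) {q q' : Ideal B} [q.IsPrime]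
    [q'.IsPrime] (hq : q ≤ m.asIdeal) (hq' : q' ≤ m.asIdeal)
    (h : q'.comap (algebraMap A B) ≤ q.comap (algebraMap A B)) : q' ≤ q := by
  obtain ⟨hψ, hcomp⟩ := comap_eq_localization h1 m
  let n := m.asIdeal.comap (algebraMap A B)
  let ψ := Localization.localRingHom n m.asIdeal (algebraMap A B) rfl
  let Q := q.map (algebraMap B (Localization.AtPrime m.asIdeal))
  let Q' := q'.map (algebraMap B (Localization.AtPrime m.asIdeal))
  have hd : ∀ {r : Ideal B}, r ≤ m.asIdeal → Disjoint (m.asIdeal.primeCompl : Set B) r := fun hr =>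
    Set.disjoint_left.2 fun x hx hxr => hx (hr hxr)
  have hQ : Q.comap (algebraMap B (Localization.AtPrime m.asIdeal)) = q :=
    IsLocalization.comap_map_of_isPrime_disjoint _ _ inferInstance (hd hq)
  have hQ' : Q'.comap (algebraMap B (Localization.AtPrime m.asIdeal)) = q' :=
    IsLocalization.comap_map_of_isPrime_disjoint _ _ inferInstance (hd hq')
  have key : ∀ (R : Ideal (Localization.AtPrime m.asIdeal)),
      ((R.comap ψ).comap (algebraMap A (Localization.AtPrime n))) =
        (R.comap (algebraMap B (Localization.AtPrime m.asIdeal))).comap (algebraMap A B) := fun R => by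
    rw [Ideal.comap_comap, Ideal.comap_comap, hcomp]
  have h2 : Q'.comap ψ ≤ Q.comap ψ := by
    rw [← IsLocalization.map_comap n.primeCompl (Localization.AtPrime n) (Q'.comap ψ),
      ← IsLocalization.map_comap n.primeCompl (Localization.AtPrime n) (Q.comap ψ)]
    refine Ideal.map_mono ?_
    show (Q'.comap ψ).comap (algebraMap A (Localization.AtPrime n)) ≤ (Q.comap ψ).comap (algebraMap A (Localization.AtPrime n))
    rw [key, key, hQ, hQ']
    exact h
  have h3 : Q' ≤ Q := by
    rw [← Ideal.map_comap_of_surjective ψ hψ.2 Q', ← Ideal.map_comap_of_surjective ψ hψ.2 Q]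
    exact Ideal.map_mono h2
  rw [← hQ, ← hQ']
  exact Ideal.comap_mono h3

theorem exists_le_comap_eq (h1 : EtPBC.IdentifiesLocalRings A B) (m : PrimeSpectrum B) (p : Ideal A) [p.IsPrime]
    (hp : p ≤ m.asIdeal.comap (algebraMap A B)) :
    ∃ q : PrimeSpectrum B, q.asIdeal ≤ m.asIdeal ∧ q.asIdeal.comap (algebraMap A B) = p := by
  obtain ⟨hψ, hcomp⟩ := comap_eq_localization h1 m
  let n := m.asIdeal.comap (algebraMap A B)
  let ψ := Localization.localRingHom n m.asIdeal (algebraMap A B) rfl
  have hr : (⟨p, inferInstance⟩ : PrimeSpectrum A) ∈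
      Set.range (PrimeSpectrum.comap (algebraMap A (Localization.AtPrime n))) := by
    rw [PrimeSpectrum.localization_comap_range (Localization.AtPrime n) n.primeCompl]
    exact Set.disjoint_left.2 fun x hx hxp => hx (hp hxp)
  obtain ⟨r, hr⟩ := hr
  obtain ⟨R, hR⟩ := (PrimeSpectrum.comapEquiv (RingEquiv.ofBijective ψ hψ)).symm.surjective r
  refine ⟨PrimeSpectrum.comap (algebraMap B _) R, ?_, ?_⟩
  · intro x hx
    by_contra hxm
    exact R.isPrime.ne_top (Ideal.eq_top_of_isUnit_mem _ hx
      (IsLocalization.map_units _ (⟨x, hxm⟩ : m.asIdeal.primeCompl)))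
  · rw [PrimeSpectrum.comap_asIdeal, Ideal.comap_comap, hcomp, ← Ideal.comap_comap]
    have hR' : R.asIdeal.comap ψ = r.asIdeal := congrArg PrimeSpectrum.asIdeal hR
    rw [hR']
    exact congrArg PrimeSpectrum.asIdeal hr

theorem bijective_of_identifiesLocalRings (h1 : EtPBC.IdentifiesLocalRings A B)
    (h2 : ProEtW.IsWLocal (PrimeSpectrum A)) (h3 : ProEtW.IsWLocal (PrimeSpectrum B))
    (h4 : ProEtW.IsWLocalMap (PrimeSpectrum.comap (algebraMap A B)))
    (h5 : Function.Bijective
      (PrimeSpectrum.continuous_comap (algebraMap A B)).connectedComponentsMap) :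
    Function.Bijective (algebraMap A B) := by
  obtain ⟨-, hA0, hA⟩ := h2
  obtain ⟨-, hB0, hB⟩ := h3
  obtain ⟨-, h4⟩ := h4
  have hbA := bijective_closedPoints hA0 hA
  have hbB := bijective_closedPoints hB0 hB
  let f := PrimeSpectrum.comap (algebraMap A B)
  have hinj : ∀ m m' : PrimeSpectrum B, IsClosed ({m} : Set (PrimeSpectrum B)) →
      IsClosed ({m'} : Set (PrimeSpectrum B)) → f m = f m' → m = m' := fun m m' hm hm' he => by
    have h := hbB.1 (a₁ := ⟨m, hm⟩) (a₂ := ⟨m', hm'⟩) (h5.1 ?_)
    · exact congrArg Subtype.val h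
    · exact congrArg ConnectedComponents.mk he
  have hsurj : ∀ n : PrimeSpectrum A, IsClosed ({n} : Set (PrimeSpectrum A)) →
      ∃ m : PrimeSpectrum B, IsClosed ({m} : Set (PrimeSpectrum B)) ∧ f m = n := fun n hn => by
    obtain ⟨c, hc⟩ := h5.2 (ConnectedComponents.mk n)
    obtain ⟨⟨m, hm⟩, rfl⟩ := hbB.2 c
    exact ⟨m, hm, congrArg Subtype.val (hbA.1 (a₁ := ⟨f m, h4 m hm⟩) (a₂ := ⟨n, hn⟩) hc)⟩
  refine bijective_of_isLocalized_maximal
    (fun P _ => Localization.AtPrime P) (fun P _ => Algebra.linearMap A (Localization.AtPrime P))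
    (fun P _ => LocalizedModule P.primeCompl B) (fun P _ => LocalizedModule.mkLinearMap P.primeCompl B)
    (Algebra.linearMap A B) fun P hP => ?_
  obtain ⟨m, hm, hmP⟩ := hsurj ⟨P, hP.isPrime⟩ ((PrimeSpectrum.isClosed_singleton_iff_isMaximal _).2 hP)
  obtain rfl : m.asIdeal.comap (algebraMap A B) = P := congrArg PrimeSpectrum.asIdeal hmP
  set P := m.asIdeal.comap (algebraMap A B)
  haveI : IsLocalization (Algebra.algebraMapSubmonoid B P.primeCompl) (Localization.AtPrime m.asIdeal) := by
    refine (IsLocalization.iff_of_le_of_exists_dvd _ _ ?_ fun b hb => ?_).2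
      (inferInstance : IsLocalization m.asIdeal.primeCompl (Localization.AtPrime m.asIdeal))
    · rintro _ ⟨a, ha, rfl⟩
      exact ha
    · by_contra hne
      push Not at hne
      obtain ⟨q', hq', hbq, hdisj⟩ := Ideal.exists_le_prime_disjoint (Ideal.span {b})
        (Algebra.algebraMapSubmonoid B P.primeCompl) (Set.disjoint_left.2 fun x hxb hx =>
          hne x hx (Ideal.mem_span_singleton.1 hxb))
      have hle : q'.comap (algebraMap A B) ≤ P := fun a ha => by
        by_contra haP
        exact Set.disjoint_left.1 hdisj ha ⟨a, haP, rfl⟩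
      obtain ⟨m', ⟨hm', hqm'⟩, -⟩ := hB ⟨q', hq'⟩
      rw [← PrimeSpectrum.le_iff_specializes] at hqm'
      have hqm'' : f m' = f m := by
        obtain ⟨n, -, hun⟩ := hA (f ⟨q', hq'⟩)
        rw [hun (f m') ⟨h4 m' hm', (PrimeSpectrum.le_iff_specializes _ _).1 (Ideal.comap_mono hqm')⟩,
          hun (f m) ⟨h4 m hm, (PrimeSpectrum.le_iff_specializes _ _).1 hle⟩]
      obtain rfl := hinj m' m hm' hm hqm''
      exact hb ((Ideal.span_singleton_le_iff_mem _).1 hbq |> fun h => hqm' h)
  haveI : IsLocalizedModule P.primeCompl (IsScalarTower.toAlgHom A B (Localization.AtPrime m.asIdeal)).toLinearMap :=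
    isLocalizedModule_iff_isLocalization.2 inferInstance
  let ψ := Localization.localRingHom P m.asIdeal (algebraMap A B) rfl
  let ψl : Localization.AtPrime P →ₗ[A] Localization.AtPrime m.asIdeal :=
    { toFun := ψ
      map_add' := map_add ψ
      map_smul' := fun a x => by
        rw [Algebra.smul_def, Algebra.smul_def, map_mul, Localization.localRingHom_to_map]
        rfl }
  let e := IsLocalizedModule.iso P.primeCompl (IsScalarTower.toAlgHom A B (Localization.AtPrime m.asIdeal)).toLinearMap
  have heq : e.toLinearMap.comp (IsLocalizedModule.map P.primeCompl (Algebra.linearMap A (Localization.AtPrime P))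
      (LocalizedModule.mkLinearMap P.primeCompl B) (Algebra.linearMap A B)) = ψl := by
    refine IsLocalizedModule.linearMap_ext P.primeCompl (Algebra.linearMap A (Localization.AtPrime P))
      (IsScalarTower.toAlgHom A B (Localization.AtPrime m.asIdeal)).toLinearMap ?_
    refine LinearMap.ext fun a => ?_
    simp only [LinearMap.comp_apply, IsLocalizedModule.map_apply, LinearEquiv.coe_coe, e,
      LocalizedModule.mkLinearMap_apply, IsLocalizedModule.iso_mk_one]
    exact (Localization.localRingHom_to_map P m.asIdeal (algebraMap A B) rfl a).symm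
  have hb : Function.Bijective ψl := h1 m
  rw [← heq] at hb
  exact (Function.Bijective.of_comp_iff' e.bijective _).1 hb

end Groth.Agent.WLocalLib
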